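import Mathlib
import Cfsg.Agent.Lib.CosetTable.Check

/-! Generated certificate data for the coset table `Fi23SimpleMax1`. -/

namespace Cfsg.Agent.Lib.CosetTable.Fi23SimpleMax1

open Cfsg.Agent.Lib.CosetTable

set_option maxRecDepth 10000

noncomputable def facts : T := .leaf 0x700000400000a00000000002a00000400002700000400004700000800002a00000400004a00000800004600000800006600000c00004a00000800006a00000c00006500000c00008500001000006a00000c00006300000800004300001000008500000800004400000c00006600001000008300001400008a00001000008800000c0000680000080000480000140000a80000180000aa0000180000c90000140000a900001000008900000c0000690000080000490000040000290000040000280000040000250000040000240000040000230000080000470000180000a80000140000c20000100000a300000c00008400000800006500000400004600000000002700000000000900000000000800000000000600000000000500000000000400000000000300000000000200000000000100000000000000000000001400000000001300000000001200000000001100000000001000000000000f00000000000e00000000000d00000000000c00000000000b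

noncomputable def defs : T := .leaf 0xa2000000000083000000000064000000000045000000000026000000000007000000000000

noncomputable def nodeT : ℕ := 0x0

noncomputable def parT : ℕ := 0x0

noncomputable def perm0 : ℕ := 0x0

noncomputable def eid0 : ℕ := 0xa

noncomputable def perm1 : ℕ := 0x0

noncomputable def eid1 : ℕ := 0xb

noncomputable def perm2 : ℕ := 0x0

noncomputable def eid2 : ℕ := 0xc

noncomputable def perm3 : ℕ := 0x0

noncomputable def eid3 : ℕ := 0xd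

noncomputable def perm4 : ℕ := 0x0

noncomputable def eid4 : ℕ := 0xe

noncomputable def perm5 : ℕ := 0x0

noncomputable def eid5 : ℕ := 0xf

noncomputable def perm6 : ℕ := 0x0

noncomputable def eid6 : ℕ := 0x10

noncomputable def perm7 : ℕ := 0x0

noncomputable def eid7 : ℕ := 0x3e

noncomputable def perm8 : ℕ := 0x0

noncomputable def eid8 : ℕ := 0x11

noncomputable def perm9 : ℕ := 0x0

noncomputable def eid9 : ℕ := 0x12

noncomputable def rulesT : RT := .node (.node (.node (.node (.node (.node (.leaf 0 [11] 114 0) (.leaf 3 [5, 3, 5] 29 1)) (.node (.leaf 9 [6, 9, 6] 48 0) (.leaf 10 [] 0 0))) (.node (.node (.leaf 9 [19] 122 0) (.leaf 10 [7, 7] 49 0)) (.node (.leaf 8 [5, 8, 5] 43 0) (.leaf 10 [] 0 0)))) (.node (.node (.node (.leaf 4 [15] 118 0) (.leaf 10 [] 0 0)) (.node (.leaf 9 [2, 9, 2] 26 0) (.leaf 10 [] 0 0))) (.node (.node (.leaf 4 [7, 4, 7] 37 1) (.leaf 10 [] 0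 0)) (.node (.leaf 6 [5, 6, 5, 6, 5] 41 0) (.leaf 10 [] 0 0))))) (.node (.node (.node (.node (.leaf 2 [13] 116 0) (.leaf 5 [5] 0 0)) (.node (.leaf 9 [4, 9, 4] 39 0) (.leaf 10 [] 0 0))) (.node (.node (.leaf 7 [6, 7, 6, 7, 6] 46 0) (.leaf 10 [] 0 0)) (.node (.leaf 10 [3, 8, 3, 8, 3, 8] 32 0) (.leaf 10 [] 0 0)))) (.node (.node (.node (.leaf 6 [17] 120 0) (.leaf 10 [6, 6] 45 0)) (.node (.leaf 8 [8] 0 0) (.leaf 10 [] 0 0))) (.node (.node (.leaf 8 [7, 8, 7] 50 0) (.leaf 10 [] 0 0)) (.node (.leaf 5 [4, 5, 4, 5, 4] 35 0) (.leaf 10 [] 0 0)))))) (.node (.node (.node (.node (.node (.leaf 1 [12] 115 0) (.leaf 10 [4, 3, 4, 3, 4, 3] 28 1)) (.node (.leaf 9 [5, 9, 5] 44 0) (.leaf 10 [] 0 0))) (.node (.node (.leaf 8 [2, 3, 4, 5, 6, 7, 20, 7, 6, 5, 4, 3] 123 7) (.leaf 10 [] 0 0)) (.node (.leaf 8 [4, 8, 4] 38 0) (.leaf 10 [] 0 0)))) (.node (.node (.node (.leaf 5 [16] 119 0) (.leaf 6 [6] 0 0))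 (.node (.leaf 10 [8, 9, 8, 9, 8, 9] 53 0) (.leaf 10 [] 0 0))) (.node (.node (.leaf 5 [7, 5, 7] 42 1) (.leaf 10 [] 0 0)) (.node (.leaf 4 [6, 4, 6] 36 1) (.leaf 10 [] 0 0))))) (.node (.node (.node (.node (.leaf 3 [14] 117 0) (.leaf 10 [5, 5] 40 0)) (.node (.leaf 9 [3, 9, 3] 33 0) (.leaf 10 [] 0 0))) (.node (.node (.leaf 3 [7, 3, 7] 31 1) (.leaf 10 [] 0 0)) (.node (.leaf 3 [3] 0 0) (.leaf 10 [] 0 0)))) (.node (.node (.node (.leaf 8 [18] 121 0) (.leaf 7 [7] 0 0)) (.node (.leaf 8 [6, 8, 6] 47 0) (.leaf 10 [] 0 0))) (.node (.node (.leaf 9 [7, 9, 7] 51 0) (.leaf 10 [] 0 0)) (.node (.leaf 3 [6, 3, 6] 30 1) (.leaf 10 [] 0 0))))))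

noncomputable def relsL : List (List ℕ) := [[0, 0],
  [0, 1, 0, 1, 0, 1],
  [0, 2, 0, 2],
  [0, 3, 0, 3],
  [0, 4, 0, 4],
  [0, 5, 0, 5],
  [0, 6, 0, 6],
  [0, 7, 0, 7],
  [0, 8, 0, 8],
  [0, 9, 0, 9],
  [1, 1],
  [1, 2, 1, 2, 1, 2],
  [1, 3, 1, 3],
  [1, 4, 1, 4],
  [1, 5, 1, 5],
  [1, 6, 1, 6],
  [1, 7, 1, 7],
  [1, 8, 1, 8],
  [1, 9, 1, 9],
  [2, 2],
  [2, 3, 2, 3, 2, 3],
  [2, 4, 2, 4],
  [2, 5, 2, 5],
  [2, 6, 2, 6],
  [2, 7, 2, 7],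
  [2, 8, 2, 8],
  [2, 9, 2, 9],
  [3, 3],
  [3, 4, 3, 4, 3, 4],
  [3, 5, 3, 5],
  [3, 6, 3, 6],
  [3, 7, 3, 7],
  [3, 8, 3, 8, 3, 8],
  [3, 9, 3, 9],
  [4, 4],
  [4, 5, 4, 5, 4, 5],
  [4, 6, 4, 6],
  [4, 7, 4, 7],
  [4, 8, 4, 8],
  [4, 9, 4, 9],
  [5, 5],
  [5, 6, 5, 6, 5, 6],
  [5, 7, 5, 7],
  [5, 8, 5, 8],
  [5, 9, 5, 9],
  [6, 6],
  [6, 7, 6, 7, 6, 7],
  [6, 8, 6, 8],
  [6, 9, 6, 9],
  [7, 7],
  [7, 8, 7, 8],
  [7, 9, 7, 9],
  [8, 8],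
  [8, 9, 8, 9, 8, 9],
  [9, 9],
  [3, 2, 1, 3, 4, 5, 3, 8, 9, 3, 2, 1, 3, 4, 5, 3, 8, 9, 3, 2, 1, 3, 4, 5, 3, 8, 9, 3, 2, 1, 3, 4, 5, 3, 8, 9, 3, 2, 1, 3, 4, 5, 3, 8, 9, 3, 2, 1, 3, 4, 5, 3, 8, 9, 3, 2, 1, 3, 4, 5, 3, 8, 9, 3, 2, 1, 3, 4, 5, 3, 8, 9, 3, 2, 1, 3, 4, 5, 3, 8, 9, 3, 2, 1, 3, 4, 5, 3, 8, 9],
  [0, 1, 2, 3, 4, 5, 8, 0, 1, 2, 3, 4, 5, 8, 0, 1, 2, 3, 4, 5, 8, 0, 1, 2, 3, 4, 5, 8, 0, 1, 2, 3, 4, 5, 8, 0, 1, 2, 3, 4, 5, 8, 0, 1, 2, 3, 4, 5, 8, 0, 1, 2, 3, 4, 5, 8, 0, 1, 2, 3, 4, 5, 8]]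

noncomputable def subsL : List (List ℕ) := [[0],
  [1],
  [2],
  [3],
  [4],
  [5],
  [6],
  [8],
  [9],
  [7, 6, 5, 4, 3, 2, 8, 3, 4, 5, 6, 7]]

noncomputable def cert : Cert where
  k := 10
  rels := relsL
  subs := subsL
  rules := rulesT
  facts := facts
  defs := defs

noncomputable def tab : Table where
  n := 1
  k := 10
  node := nodeT
  perms := [perm0, perm1, perm2, perm3, perm4, perm5, perm6, perm7, perm8, perm9]
  eids := [eid0, eid1, eid2, eid3, eid4, eid5, eid6, eid7, eid8, eid9]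
  par := parT

end Cfsg.Agent.Lib.CosetTable.Fi23SimpleMax1
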