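import Cfsg.Agent.Lib.CosetTable.Sound
import Cfsg.Agent.Lib.CosetTable.Fi23SimpleMax1.Data

/-! Generated certificate data for the coset table `Fi23SimpleMax1`. -/

namespace Cfsg.Agent.Lib.CosetTable.Fi23SimpleMax1

open Cfsg.Agent.Lib.CosetTable

noncomputable def streams0 : List (ℕ × ℕ) := [(63, 0x7a00002600000200002900007900000100002600007700002600000200002a00007200007400000200002900003400007300000200002900007100000100002600006f00002800000200002800006a00006c00000200002700005800006b00000200002700006900000100002600006700002a00000200002500006200006400000200002400005c00006300000200002400006100002d00005700002c00006100002d00000600002300002a00005f00002b00000300002200002800003700002900000300002100002c00002a00005b00002b00002d00000500002000002800003900002900000300001f00002a00002800003b00002900002b00000500001e00005400002e00000200001d00005300002f00004d00002e00005300002f00000600001c00002c00005100002d00000300001b00002a00004f00002b00000300001a00002800003d00002900000300001900004a00003300000200001800004700003200004900003300004700003200000600001700003000004700003100000300001600002e00004500002f00000300001500002c00004300002d00000300001400002a00004100002b00000300001300002800003f00002900000300001200002600002400002700000300001100002600002200002700000300001000002600001e00002700000300000f00002600001c00002700000300000e00002600001a00002700000300000d00002800002600002000002700002900000500000c00002e00002c00002a00002800002600001200002700002900002b00002d00002f00003100000c00000b00000000000000000000000000000000000000000000000000000000000000000000000000001000000100000a00000e00000100000900000c00000100000800000a000001000007000008000001000006000006000001000005000004000001000004000002000001000003000000000001000002000000000001000000000001000000000001000000000001000000000001000000000001000000000001000000000001000000000001000000000001)]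

theorem run0 : cert.goStreams streams0 0 = true := by decide +kernel

theorem part1 (h : cert.Upto 0) : cert.Upto 63 :=
  (h).step (b := 63) run0 rfl

end Cfsg.Agent.Lib.CosetTable.Fi23SimpleMax1
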